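import Groth.Agent.H25Hat.RankK
import Groth.Agent.H25Index.EulerIsogeny

/-!
# Riemann–Roch for the subgroup fixing a class over an arbitrary field
-/

set_option autoImplicit false
set_option linter.style.haveILetI false
set_option linter.unusedSectionVars false
set_option backward.isDefEq.respectTransparency false
set_option synthInstance.maxHeartbeats 400000
set_option maxHeartbeats 1600000
universe u

open CategoryTheory CategoryTheory.Limits MonoidalCategory CartesianMonoidalCategory MonObj AlgebraicGeometry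
open Groth.Agent Groth.Agent.H25AbCube Groth.Agent.H25Dual Groth.Agent.H25AbCube.GeomTate
open Groth.Agent.H25Index (Kbar gX gp gM FixFinite)

noncomputable section

attribute [local instance] Functor.grpObjObj

namespace Groth.Agent.H25Hat

variable {k : Type u} [Field k] {A : Over (Spec (CommRingCat.of k))} [GrpObj A] [IsProper A.hom]
  [GeometricallyIntegral A.hom]

/-- The universal property of `K(L)` through classes. -/
theorem kl_iff (L : A.left.Modules) (hL : PicF.IsInvertible L) {K : Over (Spec (CommRingCat.of k))} {i : K ⟶ A}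
    (hK : ThetaGrp.IsKL A L i) (T : Over (Spec (CommRingCat.of k))) (a : T ⟶ A) :
    (∃ z : T ⟶ K, z ≫ i = a) ↔ ev (theta (pc L hL)) (A ◁ a) = 0 := by
  haveI : IsCommMonObj A := isCommMonObj_of_av
  rw [← hK.univ T a]
  set l := pc L hL
  have hmu : (A ◁ a) ≫ μ[A] = fst A T * (snd A T ≫ a) := by
    rw [whisker_eq]; rfl
  have key : ∀ (N : T.left.Modules) (hN : PicF.IsInvertible N),
      AgPol.IsLambdaSheaf ((A ◁ a) ≫ μ[A]).left (fst A T).left (snd A T ≫ a).left L
        ((Scheme.Modules.pullback (snd A T).left).obj N) ↔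
      ev (theta l) (A ◁ a) = ev (pc N hN) (snd A T) := fun N hN => by
    have h1 := H11Ample.isInvertible_pullback (snd A T).left hN
    have h2 := H11Ample.isInvertible_pullback (fst A T).left hL
    have h3 := H11Ample.isInvertible_pullback (snd A T ≫ a).left hL
    have h4 := H11Ample.isInvertible_pullback ((A ◁ a) ≫ μ[A]).left hL
    unfold AgPol.IsLambdaSheaf
    rw [← pc_eq_iff (H11Ample.isInvertible_tensor (H11Ample.isInvertible_tensor h1 h2) h3) h4,
      pc_tensor (H11Ample.isInvertible_tensor h1 h2) h3, pc_tensor h1 h2, pullP_pc _ L hL, pullP_pc _ L hL,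
      pullP_pc _ L hL, pullP_pc _ N hN]
    show ev (pc N hN) (snd A T) + ev l (fst A T) + ev l (snd A T ≫ a) = ev l ((A ◁ a) ≫ μ[A]) ↔ _
    rw [hmu, whisker_eq, th_eq, th, sub_sub, sub_eq_iff_eq_add, add_assoc, eq_comm]
  refine ⟨fun ⟨N, hN, h⟩ => ?_, fun h => ?_⟩
  · have h1 := (key N hN).1 h
    have h2 : ev (ev (theta l) (A ◁ a)) (lift (1 : T ⟶ A) (𝟙 T)) = 0 := by
      rw [ev_comp, show lift (1 : T ⟶ A) (𝟙 T) ≫ (A ◁ a) = lift 1 a by
        apply CartesianMonoidalCategory.hom_ext <;> simp, theta_one_left]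
    rw [h1, ev_comp, lift_snd, show ev (pc N hN) (𝟙 T) = pc N hN from pullP_id _] at h2
    rw [h1, h2]
    exact map_zero _
  · refine ⟨_, H11Ample.isInvertible_structureModule, (key _ H11Ample.isInvertible_structureModule).2 ?_⟩
    rw [h, pc_one]
    exact (map_zero _).symm

variable (Ω : Type u) [Field Ω] [Algebra k Ω]

/-- The adjoint of a morphism into a base change. -/
def adjPt {B : Over (Spec (CommRingCat.of k))} {X : Over (Spec (CommRingCat.of Ω))} (a : X ⟶ (bc k Ω).obj B) :
    (Over.map (σ k Ω)).obj X ⟶ B :=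
  ((Over.mapPullbackAdj (σ k Ω)).homEquiv X B).symm a

theorem adjPt_left {B : Over (Spec (CommRingCat.of k))} {X : Over (Spec (CommRingCat.of Ω))}
    (a : X ⟶ (bc k Ω).obj B) : (adjPt Ω a).left = a.left ≫ pullback.fst B.hom (σ k Ω) := by
  simp only [adjPt, Adjunction.homEquiv_counit]
  rw [Over.comp_left]
  rfl

theorem ev_adjPt {B : Over (Spec (CommRingCat.of k))} {X : Over (Spec (CommRingCat.of Ω))}
    (a : X ⟶ (bc k Ω).obj B) (l : PC B.left) :
    ev (T := X) (pullP (pullback.fst B.hom (σ k Ω)) l) a = ev (T := (Over.map (σ k Ω)).obj X) l (adjPt Ω a) := by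
  show pullP a.left (pullP _ l) = pullP (adjPt Ω a).left l
  rw [adjPt_left]
  exact pullP_pullP _ _ _

/-- The universal property is stable under base change. -/
theorem kl_bc (l : PC A.left) {K : Over (Spec (CommRingCat.of k))} (i : K ⟶ A)
    (hK : ∀ (T : Over (Spec (CommRingCat.of k))) (a : T ⟶ A),
      (∃ z : T ⟶ K, z ≫ i = a) ↔ ev (theta l) (A ◁ a) = 0)
    (T : Over (Spec (CommRingCat.of Ω))) (a : T ⟶ (bc k Ω).obj A) :
    (∃ z : T ⟶ (bc k Ω).obj K, z ≫ (bc k Ω).map i = a) ↔
      ev (theta (A := (bc k Ω).obj A) (pullP (pullback.fst A.hom (σ k Ω)) l)) (((bc k Ω).obj A) ◁ a) = 0 := by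
  let A' := (bc k Ω).obj A
  let T₀ := (Over.map (σ k Ω)).obj T
  let adj := Over.mapPullbackAdj (σ k Ω)
  have h1 : (∃ z : T ⟶ (bc k Ω).obj K, z ≫ (bc k Ω).map i = a) ↔ ∃ z : T₀ ⟶ K, z ≫ i = adjPt Ω a := by
    refine ⟨fun ⟨z, hz⟩ => ⟨(adj.homEquiv T K).symm z, ?_⟩, fun ⟨z, hz⟩ => ⟨adj.homEquiv T K z, ?_⟩⟩
    · rw [← hz]; exact (adj.homEquiv_naturality_right_symm z i).symm
    · exact (adj.homEquiv_naturality_right z i).symm.trans
        ((congrArg (adj.homEquiv T A) hz).trans ((adj.homEquiv T A).apply_symm_apply a))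
  rw [h1, hK]
  let e : (Over.map (σ k Ω)).obj (A' ⊗ T) ⟶ A ⊗ T₀ :=
    lift (adjPt Ω (fst A' T)) ((Over.map (σ k Ω)).map (snd A' T))
  haveI : IsIso e.left := by
    rw [show e.left = (pullbackLeftPullbackSndIso A.hom (σ k Ω) T.hom).hom from ?_]
    · infer_instance
    · apply pullback.hom_ext
      · refine (congrArg CommaMorphism.left (lift_fst (adjPt Ω (fst A' T)) _)).trans ?_
        exact (adjPt_left Ω (fst A' T)).trans (pullbackLeftPullbackSndIso_hom_fst A.hom (σ k Ω) T.hom).symm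
      · refine (congrArg CommaMorphism.left (lift_snd (adjPt Ω (fst A' T)) _)).trans ?_
        exact (pullbackLeftPullbackSndIso_hom_snd A.hom (σ k Ω) T.hom).symm
  have h2 : ev (T := (Over.map (σ k Ω)).obj (A' ⊗ T)) (ev (theta l) (A ◁ adjPt Ω a)) e =
      ev (theta (A := A') (pullP (pullback.fst A.hom (σ k Ω)) l)) (A' ◁ a) := by
    rw [ev_comp, show e ≫ (A ◁ adjPt Ω a) = lift (adjPt Ω (fst A' T)) (adjPt Ω (snd A' T ≫ a)) by
      apply CartesianMonoidalCategory.hom_ext
      · rw [Category.assoc, whiskerLeft_fst, lift_fst, lift_fst]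
      · rw [Category.assoc, whiskerLeft_snd, lift_snd_assoc, lift_snd]
        exact (adj.homEquiv_naturality_left_symm _ _).symm, whisker_eq (A := A'), ev_theta, ev_theta, ev_adjPt,
      ev_adjPt, ev_adjPt, adjPt, adjPt, adjPt, symm_mul]
  refine ⟨fun h => ?_, fun h => ?_⟩
  · rw [← h2, h]; exact map_zero _
  · rw [← h2] at h
    have h3 := congrArg (fun z => pullP (inv e.left) z) h
    change pullP (inv e.left) (pullP e.left _) = pullP _ 0 at h3
    rwa [pullP_pullP, IsIso.inv_hom_id, pullP_id, map_zero] at h3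

omit [GrpObj A] [IsProper A.hom] [GeometricallyIntegral A.hom] in
/-- The square of a base change. -/
theorem isPullback_bc {K B : Over (Spec (CommRingCat.of k))} (e : K ⟶ B) :
    IsPullback (pullback.fst K.hom (σ k Ω)) ((bc k Ω).map e).left e.left (pullback.fst B.hom (σ k Ω)) := by
  refine IsPullback.of_bot (v₂₁ := pullback.snd B.hom (σ k Ω)) (v₂₂ := B.hom) ?_ ?_ (IsPullback.of_hasPullback B.hom (σ k Ω))
  · simp only [Over.pullback_map_left, pullback.lift_snd, Over.w]
    exact IsPullback.of_hasPullback K.hom (σ k Ω)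
  · simp only [Over.pullback_map_left, pullback.lift_fst]

/-- A point fixing a class lies in the subgroup fixing it. -/
theorem kl_point (l : PC A.left) {K : Over (Spec (CommRingCat.of k))} (i : K ⟶ A)
    (hK : ∀ (T : Over (Spec (CommRingCat.of k))) (a : T ⟶ A),
      (∃ z : T ⟶ K, z ≫ i = a) ↔ ev (theta l) (A ◁ a) = 0)
    (a : 𝟙_ (Over (Spec (CommRingCat.of k))) ⟶ A) (h : transl l a = l) : ∃ z : 𝟙_ _ ⟶ K, z ≫ i = a := by
  refine (hK _ a).2 ?_
  rw [show (A ◁ a : A ⊗ 𝟙_ _ ⟶ A ⊗ A) = fst A _ ≫ lift (𝟙 A) (toUnit A ≫ a) by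
    apply CartesianMonoidalCategory.hom_ext
    · simp
    · rw [whiskerLeft_snd, Category.assoc, lift_snd, ← Category.assoc,
        toUnit_unique (fst A (𝟙_ _) ≫ toUnit A) (snd A (𝟙_ _))], ← ev_comp, ev_theta, ev_toUnit, sub_zero,
    show ev l (𝟙 A) = l from pullP_id _, show ev l (𝟙 A * (toUnit A ≫ a)) = l from h, sub_self]
  exact map_zero _

/-- A class whose fixing subgroup is finite is fixed by finitely many translations over the algebraic closure. -/
theorem fixFinite_gM (L : A.left.Modules) (hL : PicF.IsInvertible L) {K : Over (Spec (CommRingCat.of k))} (i : K ⟶ A)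
    (hK : ∀ (T : Over (Spec (CommRingCat.of k))) (a : T ⟶ A),
      (∃ z : T ⟶ K, z ≫ i = a) ↔ ev (theta (pc L hL)) (A ◁ a) = 0) [IsFinite K.hom] :
    FixFinite (pc (gM L) (H11Ample.isInvertible_pullback (gp A) hL)) := by
  haveI : IsFinite (gX K).hom := MorphismProperty.pullback_snd (P := @IsFinite) K.hom _ inferInstance
  haveI : Finite (𝟙_ (Over (Spec (CommRingCat.of (Kbar k)))) ⟶ gX K) := by
    have := finite_pt_hom (k := Kbar k) (Ω := Kbar k) (gX K)
    exact Finite.of_injective (fun z => (Over.homMk z.left (by simpa using Over.w z) : SGA7.pt (Kbar k) ⟶ gX K))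
      fun a b hab => Over.OverMorphism.ext (congrArg (fun w : SGA7.pt (Kbar k) ⟶ gX K => w.left) hab)
  refine (Set.finite_range fun z : 𝟙_ (Over (Spec (CommRingCat.of (Kbar k)))) ⟶ gX K =>
    z ≫ (bc k (Kbar k)).map i).subset fun a ha => ?_
  rw [pullP_pc _ L hL] at ha
  exact kl_point (A := gX A) _ _ (fun T b => kl_bc (Kbar k) (pc L hL) i hK T b) a ha

/-- Riemann–Roch over an arbitrary field. -/
theorem euler_sq_field (L : A.left.Modules) (hL : PicF.IsInvertible L)
    (hfin : FixFinite (pc (gM L) (H11Ample.isInvertible_pullback (gp A) hL)))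
    {K : Over (Spec (CommRingCat.of k))} (i : K ⟶ A) [IsClosedImmersion i.left]
    (hK : ∀ (T : Over (Spec (CommRingCat.of k))) (a : T ⟶ A),
      (∃ z : T ⟶ K, z ≫ i = a) ↔ ev (theta (pc L hL)) (A ◁ a) = 0) :
    IsFinite K.hom ∧ ∀ s, (Scheme.Hom.finrank K.hom s : ℤ) = @Curv2.euler k _ A.left ⟨A.hom⟩ L ^ 2 := by
  let i' := (bc k (Kbar k)).map i
  haveI : IsClosedImmersion i'.left :=
    MorphismProperty.of_isPullback (P := @IsClosedImmersion) (isPullback_bc (Kbar k) i) ‹_›
  haveI : Mono i' := Over.mono_of_mono_left i'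
  have hK' : ∀ (T : Over (Spec (CommRingCat.of (Kbar k)))) (a : T ⟶ gX A),
      (∃ z : T ⟶ gX K, z ≫ i' = a) ↔
        ev (theta (pc (gM L) (H11Ample.isInvertible_pullback (gp A) hL))) ((gX A) ◁ a) = 0 := fun T a => by
    rw [pullP_pc _ L hL]
    exact kl_bc (Kbar k) (pc L hL) i hK T a
  haveI : IsFinite (gX K).hom := isFinite_of_finite_fixing _ hfin i' ((hK' _ i').1 ⟨𝟙 _, Category.id_comp _⟩)
  have hσ : H18Descent.fpqc (σ k (Kbar k)) := by
    refine ⟨⟨?_, ?_⟩, inferInstanceAs (QuasiCompact (Spec.map _))⟩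
    · exact ⟨fun x => ⟨IsLocalRing.closedPoint (Kbar k), Subsingleton.elim (α := PrimeSpectrum k) _ _⟩⟩
    · show Flat (Spec.map _)
      rw [HasRingHomProperty.Spec_iff (P := @Flat)]
      exact RingHom.flat_algebraMap_iff.2 inferInstance
  haveI : IsFinite K.hom := MorphismProperty.of_isPullback_of_descendsAlong (P := @IsFinite) (Q := H18Descent.fpqc.{u})
    (IsPullback.of_hasPullback K.hom (σ k (Kbar k))).flip hσ ‹_›
  refine ⟨inferInstance, fun s => ?_⟩
  have hc : Subsingleton ↥(Spec (CommRingCat.of (Kbar k))) := inferInstanceAs (Subsingleton (PrimeSpectrum _))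
  have hr : ∀ t, Scheme.Hom.finrank (gX K).hom t = Scheme.Hom.finrank K.hom s := fun t => by
    refine (Scheme.Hom.finrank_of_isPullback _ _ _ _ (IsPullback.of_hasPullback K.hom (σ k (Kbar k))) t).trans ?_
    exact congrArg _ (Subsingleton.elim (α := PrimeSpectrum k) _ _)
  rw [← euler_sq_rank (gM L) _ hfin i' hK' _ hr, H25Index.euler_gM L (H11Ample.isCoh_of_isInvertible hL)]

end Groth.Agent.H25Hat
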