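import Groth.Agent.H25AbCube.PoincareSub
import Groth.Agent.H25AbCube.AbImage
import Groth.Agent.H19Quot.AbelianCat
import Groth.Agent.H19Quot.LargestNormal
import Groth.Agent.H25AbCube.PoincareSplit
import Groth.Agent.H19Grp.ImageGroup
import Groth.Agent.H19Grp.Kernel
import Groth.Agent.H13Desc.Flat
import Groth.Agent.H18Descent.Basic
import Groth.Agent.H25Rig.Rigidity
import Groth.Agent.S4717

/-!
# The quotient of an abelian variety by the group of translations fixing an ample class
-/

set_option autoImplicit false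
set_option linter.style.haveILetI false
set_option linter.unusedSectionVars false
set_option backward.isDefEq.respectTransparency false
set_option synthInstance.maxHeartbeats 400000
set_option maxHeartbeats 1000000
universe u

open CategoryTheory CategoryTheory.Limits MonoidalCategory CartesianMonoidalCategory MonObj GrpObj AlgebraicGeometry
open Groth.Agent Groth.Agent.H25AbCube

noncomputable section

namespace Groth.Agent.H25Hat

variable {k : Type u} [Field k] {A : Over (Spec (CommRingCat.of k))} [GrpObj A] [IsProper A.hom]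
  [GeometricallyIntegral A.hom]

omit [GrpObj A] [IsProper A.hom] [GeometricallyIntegral A.hom] in
theorem whisker_eq {T : Over (Spec (CommRingCat.of k))} (a : T ⟶ A) :
    A ◁ a = lift (fst A T) (snd A T ≫ a) := by
  apply CartesianMonoidalCategory.hom_ext <;> simp

omit [IsProper A.hom] [GeometricallyIntegral A.hom] in
/-- The kernel pair of a homomorphism. -/
theorem isPullback_kernel {B K : Over (Spec (CommRingCat.of k))} [GrpObj B] (q : A ⟶ B) [IsMonHom q] (i : K ⟶ A)
    [Mono i] (hiq : i ≫ q = 1)
    (hlift : ∀ (T : Over (Spec (CommRingCat.of k))) (x : T ⟶ A), x ≫ q = 1 → ∃ n : T ⟶ K, n ≫ i = x) :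
    IsPullback (fst A K) (fst A K * (snd A K ≫ i)) q q := by
  let p₂ : A ⊗ K ⟶ A := fst A K * (snd A K ≫ i)
  have hw : fst A K ≫ q = p₂ ≫ q := by
    rw [show p₂ ≫ q = (fst A K ≫ q) * ((snd A K ≫ i) ≫ q) from MonObj.mul_comp _ _ q, Category.assoc, hiq,
      MonObj.comp_one, _root_.mul_one]
  have key : ∀ s : PullbackCone q q, ∃ n : s.pt ⟶ K, n ≫ i = s.fst⁻¹ * s.snd := fun s => by
    refine hlift _ _ ?_
    rw [MonObj.mul_comp, GrpObj.inv_comp, s.condition, inv_mul_cancel]
  have hsq : IsPullback (fst A K) p₂ q q := by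
    refine ⟨⟨hw⟩, ⟨PullbackCone.IsLimit.mk _ (fun s => lift s.fst (key s).choose) (fun s => lift_fst _ _)
      (fun s => ?_) (fun s m h1 h2 => ?_)⟩⟩
    · show lift s.fst (key s).choose ≫ p₂ = _
      rw [show lift s.fst (key s).choose ≫ p₂ = _ * _ from MonObj.comp_mul _ _ _, lift_fst, lift_snd_assoc,
        (key s).choose_spec, mul_inv_cancel_left]
    · apply CartesianMonoidalCategory.hom_ext
      · rw [lift_fst, h1]
      · rw [lift_snd, ← cancel_mono i, (key s).choose_spec, ← h1, ← h2,
          show m ≫ p₂ = (m ≫ fst A K) * (m ≫ snd A K ≫ i) from MonObj.comp_mul _ _ _, inv_mul_cancel_left,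
          Category.assoc]
  exact hsq

/-- The group of translations fixing a class, as a closed subgroup scheme. -/
theorem exists_fixing (l : PC A.left) :
    ∃ (K : Over (Spec (CommRingCat.of k))) (_ : GrpObj K) (j : K ⟶ A), IsMonHom j ∧ IsClosedImmersion j.left ∧
      ∀ (T : Over (Spec (CommRingCat.of k))) (a : T ⟶ A), (∃ z : T ⟶ K, z ≫ j = a) ↔ ev (theta l) (A ◁ a) = 0 := by
  haveI : IsCommMonObj A := isCommMonObj_of_av
  obtain ⟨K, gK, j, hj, hjc, hK⟩ := exists_orth l (𝟙 A)
  refine ⟨K, gK, j, hj, hjc, fun T a => ?_⟩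
  have hp : pairing l (𝟙 A) a = ev (theta l) (A ◁ a) := by
    rw [pairing, Category.comp_id, whisker_eq, th_eq]
  rw [hK T a, ← hp]
  refine ⟨fun ⟨N, hN⟩ => ?_, fun h => ⟨0, h.trans (map_zero _).symm⟩⟩
  have h1 := congrArg (fun z => ev z (lift (1 : T ⟶ A) (𝟙 T))) hN
  simp only [pairing, ev_th, ev_comp, Category.comp_id, lift_fst, lift_snd, lift_snd_assoc, Category.id_comp] at h1
  rw [th_comm, th_one_right, show ev N (𝟙 T) = N from pullP_id N] at h1
  rw [hN, ← h1]
  exact map_zero _

/-- The quotient by the translations fixing a class with finitely many such translations. -/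
theorem exists_quotient_of_finite (l : PC A.left)
    (hfin : ∀ (K : Over (Spec (CommRingCat.of k))) (_ : GrpObj K) (i : K ⟶ A), IsMonHom i → IsClosedImmersion i.left →
      ev (theta l) (A ◁ i) = 0 → IsFinite K.hom) :
    ∃ (B : Over (Spec (CommRingCat.of k))) (_ : GrpObj B) (_ : IsProper B.hom) (_ : GeometricallyIntegral B.hom)
      (q : A ⟶ B), IsMonHom q ∧ IsFinite q.left ∧ Flat q.left ∧ Surjective q.left ∧
        LocallyOfFinitePresentation q.left ∧ topologicalKrullDim B.left = topologicalKrullDim A.left ∧
        ∀ (T : Over (Spec (CommRingCat.of k))) (a : T ⟶ A),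
          a ≫ q = 1 ↔ ev (theta l) (A ◁ a) = 0 := by
  haveI : IsCommMonObj A := isCommMonObj_of_av
  haveI : IsIntegral A.left := GeometricallyIntegral.isIntegral_of_subsingleton A.hom
  obtain ⟨K, gK, i, hi, hic, hK⟩ := exists_fixing l
  haveI := hi; haveI := hic
  haveI : IsFinite K.hom := hfin K gK i hi hic ((hK K i).1 ⟨𝟙 K, Category.id_comp i⟩)
  obtain ⟨B, gB, q, hq, hBt, hBc, hqf, hqs, hqp, hker⟩ :=
    H19Quot.exists_quotientGroup i (H19Quot.AbelianCat.normal_of_comm i)
  haveI := hq; haveI := hBt; haveI := hBc; haveI := hqf; haveI := hqs; haveI := hqp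
  haveI : IsSeparated B.hom := H19Grp.AffineQuotient.isSeparated_of_grp B
  haveI : IsProper B.hom := by
    haveI : UniversallyClosed (q.left ≫ B.hom) := by rw [Over.w q]; infer_instance
    haveI : UniversallyClosed B.hom := UniversallyClosed.of_comp_surjective q.left B.hom
    exact {}
  haveI : IsProper q.left := by
    haveI : IsProper (q.left ≫ B.hom) := by rw [Over.w q]; infer_instance
    exact IsProper.of_comp q.left B.hom
  haveI : IsReduced B.left := H13Desc.isReduced_of_flat_surjective q.left
  haveI : GeometricallyReduced (q.left ≫ B.hom) := by rw [Over.w q]; infer_instance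
  haveI : GeometricallyReduced B.hom := H19Grp.geometricallyReduced_of_surjective q.left B.hom
  haveI : ConnectedSpace ↥B.left := q.left.surjective.connectedSpace q.left.continuous
  haveI : GeometricallyIntegral B.hom := geometricallyIntegral_of_connected B
  have hiq : i ≫ q = 1 := H19Grp.kernel_comp_eq_one hker
  haveI : Mono i := Over.mono_of_mono_left i
  have hsq := isPullback_kernel q i hiq fun T x hx => H19Grp.kernel_lift hker x hx
  haveI : QuasiCompact q.left := inferInstance
  haveI : IsFinite (fst A K).left := MorphismProperty.pullback_fst (P := @IsFinite) A.hom K.hom inferInstance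
  haveI : IsFinite q.left :=
    MorphismProperty.of_isPullback_of_descendsAlong (P := @IsFinite) (Q := H18Descent.fpqc.{u})
      (hsq.map (Over.forget _)) (⟨⟨‹Surjective q.left›, ‹Flat q.left›⟩, ‹QuasiCompact q.left›⟩) ‹IsFinite (fst A K).left›
  haveI : IsLocallyNoetherian A.left := LocallyOfFiniteType.isLocallyNoetherian A.hom
  haveI : IsLocallyNoetherian B.left := LocallyOfFiniteType.isLocallyNoetherian B.hom
  refine ⟨B, gB, inferInstance, inferInstance, q, hq, inferInstance, hqf, hqs, hqp,
    ((S4717.result q.left).2 q.left.surjective).symm, fun T a => ?_⟩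
  rw [← hK T a]
  exact ⟨H19Grp.kernel_lift hker a, fun ⟨z, hz⟩ => by rw [← hz, Category.assoc, hiq, MonObj.comp_one]⟩

/-- The quotient by the translations fixing an ample class. -/
theorem exists_quotient (L : A.left.Modules) (hL : CohB1.IsAmple L) :
    ∃ (B : Over (Spec (CommRingCat.of k))) (_ : GrpObj B) (_ : IsProper B.hom) (_ : GeometricallyIntegral B.hom)
      (q : A ⟶ B), IsMonHom q ∧ IsFinite q.left ∧ Flat q.left ∧ Surjective q.left ∧
        LocallyOfFinitePresentation q.left ∧ topologicalKrullDim B.left = topologicalKrullDim A.left ∧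
        ∀ (T : Over (Spec (CommRingCat.of k))) (a : T ⟶ A),
          a ≫ q = 1 ↔ ev (theta (pc L hL.1)) (A ◁ a) = 0 :=
  exists_quotient_of_finite _ fun K _ i _ hic h => by
    haveI := hic
    exact isFinite_of_theta_eq_zero L hL i (by rw [← whisker_eq]; exact h)

end Groth.Agent.H25Hat
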