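import Groth.Agent.H25Hat.Universal

/-!
# The cohomology of the structure sheaf of an abelian variety
-/

set_option autoImplicit false
set_option linter.style.haveILetI false
set_option linter.unusedSectionVars false
set_option backward.isDefEq.respectTransparency false
set_option synthInstance.maxHeartbeats 400000
set_option maxHeartbeats 1000000
universe u

open CategoryTheory CategoryTheory.Limits MonoidalCategory CartesianMonoidalCategory MonObj AlgebraicGeometry
open Groth.Agent Groth.Agent.H25AbCube Groth.Agent.H25Poinc

noncomputable section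

namespace Groth.Agent.H25Hat

/-- The dimensions of the cohomology of the structure sheaf of an abelian variety. -/
theorem finrank_structure (k : Type u) [Field k] (A : Scheme.{u}) [A.Over (Spec (CommRingCat.of k))]
    [GrpObj (Over.mk (A ↘ Spec (CommRingCat.of k)))] [IsProper (A ↘ Spec (CommRingCat.of k))]
    [Smooth (A ↘ Spec (CommRingCat.of k))] [ConnectedSpace ↥A] (g : ℕ) (hg : topologicalKrullDim ↥A = g) (n : ℕ) :
    Module.finrank k (Coh.HH A (Coh.structureModule A) n) = Nat.choose g n := by
  let A' : Over (Spec (CommRingCat.of k)) := Over.mk (A ↘ Spec (CommRingCat.of k))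
  haveI : IsProper A'.hom := ‹IsProper (A ↘ Spec (CommRingCat.of k))›
  haveI : Smooth A'.hom := ‹Smooth (A ↘ Spec (CommRingCat.of k))›
  haveI : ConnectedSpace ↥A'.left := ‹ConnectedSpace ↥A›
  haveI := H19Grp.geometricallyReduced_of_smooth_hom A'.hom
  haveI : GeometricallyIntegral A'.hom := geometricallyIntegral_of_connected A'
  obtain ⟨L, hL, B, gB, hB1, hB2, q, -, -, -, -, -, hdim, P, hP, -, -, -, hU⟩ := exists_universal A'
  exact (local_factsU P hP hU g hg (hdim.trans hg) le_rfl).2.2.2 n

end Groth.Agent.H25Hat
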