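import Groth.Agent.H25Dual.Points
import Groth.Agent.H12Pic.RigPoints

/-!
# Descent of rigidified classes along a cover of the parameters
-/

set_option autoImplicit false
set_option linter.style.haveILetI false
set_option linter.unusedSectionVars false
set_option backward.isDefEq.respectTransparency false
set_option synthInstance.maxHeartbeats 400000
set_option maxHeartbeats 1000000
universe u

open CategoryTheory CategoryTheory.Limits MonoidalCategory CartesianMonoidalCategory MonObj AlgebraicGeometry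
open Groth.Agent Groth.Agent.H25AbCube Groth.Agent.H25Dual
open Groth.Agent.H25Theta (pb pT pC pI pO tI)

noncomputable section

namespace Groth.Agent.H25Hat

variable {k : Type u} [Field k] {A : Over (Spec (CommRingCat.of k))} [GrpObj A] [IsProper A.hom]
  [GeometricallyIntegral A.hom]

/-- A rigidified class which is constant along the fibres of a cover descends. -/
theorem exists_descend {T B : Over (Spec (CommRingCat.of k))} (q : T ⟶ B) [Flat q.left]
    [LocallyOfFinitePresentation q.left] [Surjective q.left] (u : PC (A ⊗ T).left)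
    (hr : ev u (lift (1 : T ⟶ A) (𝟙 T)) = 0)
    (hglue : ∀ (S : Over (Spec (CommRingCat.of k))) (x y : S ⟶ T), x ≫ q = y ≫ q →
      ev u (A ◁ x) = ev u (A ◁ y)) :
    ∃ (P : (A ⊗ B).left.Modules) (hP : PicF.IsInvertible P),
      ev (pc (X := (A ⊗ B).left) P hP) (A ◁ q) = u ∧
        ev (pc (X := (A ⊗ B).left) P hP) (lift (1 : B ⟶ A) (𝟙 B)) = 0 := by
  obtain ⟨M, hM, rfl⟩ := exists_rep u
  have hr' : Nonempty (pb (PicF.secT A.hom η[A].left (Over.w η[A]) T) M ≅ Coh.structureModule T.left) := by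
    refine (pc_eq_iff (H11Ample.isInvertible_pullback _ hM) H11Ample.isInvertible_structureModule).1 ?_
    rw [pc_one]
    exact (pullP_pc _ M hM _).trans ((congrArg (fun g => pullP g (pc M hM)) (secT_eq T)).trans hr)
  obtain ⟨r⟩ := hr'
  let U := AbDual.ovr B q.left
  let j : U ⟶ T := Over.homMk (𝟙 T.left) ((Category.id_comp _).trans (Over.w q).symm)
  have hj : j ≫ q = AbDual.ovrHom B q.left := Over.OverMorphism.ext (Category.id_comp _)
  let c : PicF.Rig A.hom η[A].left (Over.w η[A]) T := ⟨PicF.cl M, ⟨M, rfl, hM⟩, Quot.sound ⟨r⟩⟩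
  let c' := H12Pic.RigPoints.rigPull A.hom (Over.w η[A]) j c
  let p₁ : AbDual.ovr U (pullback.fst q.left q.left) ⟶ T := AbDual.ovrHom U _ ≫ j
  let p₂ : AbDual.ovr U (pullback.fst q.left q.left) ⟶ T :=
    (Over.homMk (pullback.snd q.left q.left) (pullback.condition_assoc B.hom).symm :
        AbDual.ovr (AbDual.ovr B q.left) (pullback.fst q.left q.left) ⟶ AbDual.ovr B q.left) ≫ j
  have hp : p₁ ≫ q = p₂ ≫ q := Over.OverMorphism.ext (by
    show (pullback.fst q.left q.left ≫ 𝟙 _) ≫ q.left = (pullback.snd q.left q.left ≫ 𝟙 _) ≫ q.left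
    rw [Category.comp_id, Category.comp_id]
    exact pullback.condition)
  obtain ⟨d, hd⟩ := H12Pic.RigDescent.exists_descended A.hom (Over.w η[A]) isIso_XTproj_app B q.left c' (by
    show PicF.pullCl _ (PicF.pullCl _ (PicF.cl M)) = PicF.pullCl _ (PicF.pullCl _ (PicF.cl M))
    rw [← H17.PullCl.pullCl_comp, ← H17.PullCl.pullCl_comp, ← H12Pic.Sep.XTmap_comp, ← H12Pic.Sep.XTmap_comp,
      ← toCl_pc M hM, ← toCl_pullP, ← toCl_pullP]
    refine congrArg toCl ?_
    rw [XTmap_eq, XTmap_eq]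
    exact hglue _ p₁ p₂ hp)
  obtain ⟨P, hPd, hP⟩ := d.2.1
  let jinv : T ⟶ U := Over.homMk (𝟙 T.left) ((Category.id_comp _).trans (Over.w q))
  have hjinv : jinv ≫ j = 𝟙 T := Over.OverMorphism.ext (Category.id_comp _)
  have hq' : jinv ≫ AbDual.ovrHom B q.left = q := Over.OverMorphism.ext (Category.id_comp _)
  have hPF : PicF.pullCl (PicF.XTmap A.hom q) (PicF.cl P) = PicF.cl M := by
    have hd' := congrArg (PicF.pullCl (PicF.XTmap A.hom jinv)) hd
    change PicF.pullCl _ (PicF.pullCl _ d.1) = PicF.pullCl _ (PicF.pullCl _ (PicF.cl M)) at hd'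
    rw [← hPd, ← H17.PullCl.pullCl_comp, ← H17.PullCl.pullCl_comp, ← H12Pic.Sep.XTmap_comp,
      ← H12Pic.Sep.XTmap_comp, hjinv, hq'] at hd'
    refine hd'.trans ?_
    rw [XTmap_eq, whiskerLeft_id, Over.id_left]
    exact H17.PullCl.pullCl_id _
  refine ⟨P, hP, ?_, ?_⟩
  · obtain ⟨i⟩ := H12Pic.Sep.iso_of_cl_eq hPF
    refine Eq.trans ?_ ((pc_eq_iff (H11Ample.isInvertible_pullback _ hP) hM).2 ⟨i⟩)
    rw [pullP_pc _ P hP, XTmap_eq]
    rfl
  · have h2 := d.2.2
    rw [← hPd] at h2
    obtain ⟨i⟩ := H12Pic.Sep.iso_of_cl_eq h2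
    refine ((congrArg (fun g => pullP g (pc P hP)) (secT_eq B)).symm.trans
      ((pullP_pc _ P hP (H11Ample.isInvertible_pullback _ hP)).symm.trans ?_))
    exact ((pc_eq_iff _ H11Ample.isInvertible_structureModule).2 ⟨i⟩).trans pc_one

end Groth.Agent.H25Hat
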