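import Groth.Agent.H25Hat.Quotient
import Groth.Agent.H25Hat.Descend
import Groth.Agent.H25Poinc.FamilyU
import Groth.Agent.H25AbCube.Ample

/-!
# The universal module on a variety and its quotient
-/

set_option autoImplicit false
set_option linter.style.haveILetI false
set_option linter.unusedSectionVars false
set_option backward.isDefEq.respectTransparency false
set_option synthInstance.maxHeartbeats 400000
set_option maxHeartbeats 1600000
universe u

open CategoryTheory CategoryTheory.Limits MonoidalCategory CartesianMonoidalCategory MonObj AlgebraicGeometry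
open Groth.Agent Groth.Agent.H25AbCube Groth.Agent.H25Dual Groth.Agent.H25Poinc
open Groth.Agent.H25Theta (pb pT pC pI pO tI)

noncomputable section

namespace Groth.Agent.H25Hat

attribute [local instance] Functor.grpObjObj

variable {k : Type u} [Field k] {A B : Over (Spec (CommRingCat.of k))} [GrpObj A] [IsProper A.hom]
  [GeometricallyIntegral A.hom] [GrpObj B] [IsProper B.hom] [GeometricallyIntegral B.hom]

/-- The fibre of a class bilinear in the first variable is additive. -/
theorem additive_geo (P : (A ⊗ B).left.Modules) (hP : PicF.IsInvertible P)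
    (hl : ∀ {T : Over (Spec (CommRingCat.of k))} (b : T ⟶ B), ev (pc (X := (A ⊗ B).left) P hP) (lift 1 b) = 0)
    (hr : ∀ {T : Over (Spec (CommRingCat.of k))} (a : T ⟶ A), ev (pc (X := (A ⊗ B).left) P hP) (lift a 1) = 0)
    {Ω : Type u} [Field Ω] (t : Spec (CommRingCat.of Ω) ⟶ B.left) :
    H25Pic0.Additive' (A := geoA t A)
      (pc (X := (A ⊗ geoT t).left) _ (H11Ample.isInvertible_pullback (geoIn (A := A) t) hP)) := by
  let s := t ≫ B.hom
  let F := Over.pullback s
  let adj := Over.mapPullbackAdj s
  let A' := geoA t A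
  let β : ∀ X, (X ⟶ A') → ((Over.map s).obj X ⟶ A) := fun X a => (adj.homEquiv X A).symm a
  have hβm : ∀ X (a b : X ⟶ A'), β X (a * b) = β X a * β X b := fun X a b => by
    have h : ∀ x y : (Over.map s).obj X ⟶ A,
        adj.homEquiv X A (x * y) = adj.homEquiv X A x * adj.homEquiv X A y := fun x y => by
      rw [Adjunction.homEquiv_unit, Adjunction.homEquiv_unit, Adjunction.homEquiv_unit]
      exact (congrArg _ (map_mul (Functor.homMonoidHom F) x y)).trans (MonObj.comp_mul _ _ _)
    apply (adj.homEquiv X A).injective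
    rw [h]
    simp only [β, Equiv.apply_symm_apply]
  have hβl : ∀ X (a : X ⟶ A'), (β X a).left = a.left ≫ pullback.fst A.hom s := fun X a => by
    simp only [β, Adjunction.homEquiv_counit]
    rw [Over.comp_left]
    rfl
  let c : ∀ X : Over (Spec (CommRingCat.of Ω)), (Over.map s).obj X ⟶ B := fun X =>
    Over.homMk (X.hom ≫ t) (Category.assoc _ _ _)
  let u : PC A'.left := pc (X := (A ⊗ geoT t).left) _ (H11Ample.isInvertible_pullback (geoIn (A := A) t) hP)
  have hev : ∀ X (a : X ⟶ A'), ev u a = ev (pc (X := (A ⊗ B).left) P hP) (lift (β X a) (c X)) := fun X a => by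
    show pullP a.left u = pullP (lift (β X a) (c X)).left (pc P hP)
    rw [show u = pullP (geoIn (A := A) t) (pc P hP) from pullP_pc _ P hP _]
    erw [pullP_pullP]
    refine congrArg (fun g => pullP g (pc P hP)) ?_
    apply pullback.hom_ext
    · have h1 : geoIn (A := A) t ≫ (fst A B).left = pullback.fst A.hom s :=
        congrArg Over.Hom.left (whiskerLeft_fst A (geoPt t))
      have h2 : (lift (β X a) (c X)).left ≫ (fst A B).left = a.left ≫ pullback.fst A.hom s := by
        rw [← hβl X a]
        exact congrArg Over.Hom.left (lift_fst (β X a) (c X))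
      show (a.left ≫ geoIn t) ≫ (fst A B).left = _ ≫ (fst A B).left
      rw [Category.assoc, h1, h2]
    · have h1 : geoIn (A := A) t ≫ (snd A B).left = (snd A (geoT t)).left ≫ t :=
        (isPullback_geoIn t).w
      have h2 : (lift (β X a) (c X)).left ≫ (snd A B).left = X.hom ≫ t :=
        congrArg Over.Hom.left (lift_snd (β X a) (c X))
      show (a.left ≫ geoIn t) ≫ (snd A B).left = _ ≫ (snd A B).left
      rw [Category.assoc, h1, h2, ← Over.w a, Category.assoc]
      rfl
  show ev u (fst A' A' * snd A' A') = ev u (fst A' A') + ev u (snd A' A')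
  rw [hev, hev, hev, hβm, (H25Dual.bilinear (pc (X := (A ⊗ B).left) P hP) hl hr).1]

/-- A quotient by the translations fixing a class carries a universal module. -/
theorem exists_universal_of_finite (A : Over (Spec (CommRingCat.of k))) [GrpObj A] [IsProper A.hom]
    [GeometricallyIntegral A.hom] (l : PC A.left)
    (hfin : ∀ (K : Over (Spec (CommRingCat.of k))) (_ : GrpObj K) (i : K ⟶ A), IsMonHom i → IsClosedImmersion i.left →
      ev (theta l) (A ◁ i) = 0 → IsFinite K.hom) :
    ∃ (B : Over (Spec (CommRingCat.of k))) (_ : GrpObj B)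
      (_ : IsProper B.hom) (_ : GeometricallyIntegral B.hom) (q : A ⟶ B),
      IsMonHom q ∧ IsFinite q.left ∧ Flat q.left ∧ Surjective q.left ∧ LocallyOfFinitePresentation q.left ∧
      topologicalKrullDim B.left = topologicalKrullDim A.left ∧
      (∀ (T : Over (Spec (CommRingCat.of k))) (a : T ⟶ A), a ≫ q = 1 ↔ ev (theta l) (A ◁ a) = 0) ∧
      ∃ (P : (A ⊗ B).left.Modules) (hP : PicF.IsInvertible P),
        ev (pc (X := (A ⊗ B).left) P hP) (A ◁ q) = theta l ∧
        (∀ {T : Over (Spec (CommRingCat.of k))} (b : T ⟶ B), ev (pc (X := (A ⊗ B).left) P hP) (lift 1 b) = 0) ∧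
        (∀ {T : Over (Spec (CommRingCat.of k))} (a : T ⟶ A), ev (pc (X := (A ⊗ B).left) P hP) (lift a 1) = 0) ∧
        Universal A B P hP := by
  haveI : IsCommMonObj A := isCommMonObj_of_av
  obtain ⟨B, gB, hB1, hB2, q, hq, hqfin, hqf, hqs, hqp, hdim, hker⟩ := exists_quotient_of_finite l hfin
  haveI := hq; haveI := hqf; haveI := hqs; haveI := hqp; haveI := hqfin
  have hwl : ∀ {S : Over (Spec (CommRingCat.of k))} (x : S ⟶ A), ev (theta l) (A ◁ x) = th l (fst A S) (snd A S ≫ x) :=
    fun x => by rw [whisker_eq, th_eq]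
  obtain ⟨P, hP, hPq, hP1⟩ := exists_descend q (theta l) (theta_one_left l (𝟙 A)) (fun S x y hxy => by
    have h : ev (theta l) (A ◁ (x⁻¹ * y)) = 0 := (hker S _).1 (by
      rw [MonObj.mul_comp, GrpObj.inv_comp, hxy, inv_mul_cancel])
    rw [hwl, MonObj.comp_mul, GrpObj.comp_inv, th_mul_right, th_inv_right, neg_add_eq_zero] at h
    rw [hwl, hwl, h])
  set p : PC (A ⊗ B).left := pc P hP
  have hpq : ∀ {S : Over (Spec (CommRingCat.of k))} (x y : S ⟶ A), ev p (lift x (y ≫ q)) = th l x y := fun x y => by
    rw [← th_eq, ← hPq, ev_comp]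
    congr 1
    apply CartesianMonoidalCategory.hom_ext <;> simp
  have hl : ∀ {T : Over (Spec (CommRingCat.of k))} (b : T ⟶ B), ev p (lift 1 b) = 0 := fun {T} b => by
    rw [show lift (1 : T ⟶ A) b = b ≫ lift (1 : B ⟶ A) (𝟙 B) by
      apply CartesianMonoidalCategory.hom_ext <;> simp, ← ev_comp, hP1]
    exact map_zero _
  have hr : ∀ {T : Over (Spec (CommRingCat.of k))} (a : T ⟶ A), ev p (lift a 1) = 0 := fun {T} a => by
    rw [← MonObj.one_comp (M := A) (N := B) q, hpq, th_one_right]
  have htriv : ∀ {T : Over (Spec (CommRingCat.of k))} (x : T ⟶ B), ev p (A ◁ x) = 0 → x = 1 := fun {T} x hx => by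
    let T' : Over (Spec (CommRingCat.of k)) := Over.mk (pullback.fst x.left q.left ≫ T.hom)
    let π : T' ⟶ T := Over.homMk (pullback.fst x.left q.left) rfl
    let a : T' ⟶ A := Over.homMk (pullback.snd x.left q.left) (by
      show _ ≫ A.hom = pullback.fst x.left q.left ≫ T.hom
      rw [← Over.w q, ← Over.w x, ← pullback.condition_assoc])
    have hc : π ≫ x = a ≫ q := Over.OverMorphism.ext pullback.condition
    haveI : Flat π.left := MorphismProperty.pullback_fst (P := @Flat) _ _ hqf
    haveI : Surjective π.left := MorphismProperty.pullback_fst (P := @Surjective) _ _ hqs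
    haveI : Epi π.left := Flat.epi_of_flat_of_surjective π.left
    haveI : Epi π := Over.epi_of_epi_left π
    have h : a ≫ q = 1 := (hker T' a).2 (by
      rw [← hPq, ev_comp, ← whiskerLeft_comp, ← hc, whiskerLeft_comp, ← ev_comp, hx]
      exact map_zero _)
    rw [← cancel_epi π, hc, h, MonObj.comp_one]
  refine ⟨B, gB, hB1, hB2, q, hq, hqfin, hqf, hqs, hqp, hdim, hker, P, hP, hPq, hl, hr,
    ⟨hr (𝟙 A), fun {Ω} _ _ t ht i => ?_, htriv⟩⟩
  let A' := geoA t A
  letI : GrpObj A' := Functor.grpObjObj
  haveI : IsProper A'.hom := MorphismProperty.pullback_snd (P := @IsProper) _ _ inferInstance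
  haveI : GeometricallyIntegral A'.hom := MorphismProperty.pullback_snd (P := @GeometricallyIntegral) _ _ inferInstance
  have hM := H11Ample.isInvertible_pullback (geoIn (A := A) t) hP
  refine H25Pic0.subsingleton_HH (A := A') _ hM (additive_geo P hP hl hr t) (fun h0 => ?_) i
  have h1 : geoPt t = 1 := htriv (geoPt t) ((pullP_pc _ P hP hM).symm.trans h0)
  refine ht (IsLocalRing.closedPoint Ω) ?_
  have h2 : t = (geoT t).hom ≫ (η[B] : 𝟙_ _ ⟶ B).left := (congrArg CommaMorphism.left h1).trans (one_left (geoT t))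
  rw [h2, Scheme.Hom.comp_apply]
  exact congrArg _ (Subsingleton.elim (α := PrimeSpectrum k) _ _)

/-- A quotient by the translations fixing an ample class carries a universal module. -/
theorem exists_universal (A : Over (Spec (CommRingCat.of k))) [GrpObj A] [IsProper A.hom]
    [GeometricallyIntegral A.hom] :
    ∃ (L : A.left.Modules) (hL : CohB1.IsAmple L) (B : Over (Spec (CommRingCat.of k))) (_ : GrpObj B)
      (_ : IsProper B.hom) (_ : GeometricallyIntegral B.hom) (q : A ⟶ B),
      IsMonHom q ∧ IsFinite q.left ∧ Flat q.left ∧ Surjective q.left ∧ LocallyOfFinitePresentation q.left ∧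
      topologicalKrullDim B.left = topologicalKrullDim A.left ∧
      ∃ (P : (A ⊗ B).left.Modules) (hP : PicF.IsInvertible P),
        ev (pc (X := (A ⊗ B).left) P hP) (A ◁ q) = theta (pc L hL.1) ∧
        (∀ {T : Over (Spec (CommRingCat.of k))} (b : T ⟶ B), ev (pc (X := (A ⊗ B).left) P hP) (lift 1 b) = 0) ∧
        (∀ {T : Over (Spec (CommRingCat.of k))} (a : T ⟶ A), ev (pc (X := (A ⊗ B).left) P hP) (lift a 1) = 0) ∧
        Universal A B P hP := by
  obtain ⟨L, hL⟩ := exists_isAmple A
  obtain ⟨B, gB, hB1, hB2, q, hq, hqfin, hqf, hqs, hqp, hdim, -, hP⟩ :=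
    exists_universal_of_finite A (pc L hL.1) fun K _ i _ hic h => by
      haveI := hic
      exact isFinite_of_theta_eq_zero L hL i (by rw [← whisker_eq]; exact h)
  exact ⟨L, hL, B, gB, hB1, hB2, q, hq, hqfin, hqf, hqs, hqp, hdim, hP⟩

end Groth.Agent.H25Hat
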