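import Groth.Agent.H25Hat.Numbers
import Groth.Agent.S9371
import Groth.Agent.S9372
import Groth.Agent.H28RR.Omega
import Groth.Agent.H3CAlg.DiagRegular
import Groth.Agent.H22Alg.ExtPowHom
import Groth.Agent.H22Alg.MumfordStep
import Groth.Agent.H26Def.AdicPic
import Groth.Agent.H10Coh.ExtPowFree
import Groth.Agent.H29RR.PointAux
import Groth.Agent.H19Grp.Kernel
import Groth.Agent.H22Alg.KPullLam
import Groth.Agent.H26Gr.FreeGrass

/-!
# Differentials and their exterior powers on an abelian variety
-/

set_option autoImplicit false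
set_option linter.style.haveILetI false
set_option linter.unusedSectionVars false
set_option backward.isDefEq.respectTransparency false
set_option synthInstance.maxHeartbeats 400000
set_option maxHeartbeats 1000000
universe u

open CategoryTheory CategoryTheory.Limits MonoidalCategory CartesianMonoidalCategory MonObj AlgebraicGeometry
open Groth.Agent

noncomputable section

namespace Groth.Agent.H25Hat

variable {k : Type u} [Field k]

/-- The differentials of a group are pulled back from the unit. -/
theorem nonempty_omega_iso (A : Over (Spec (CommRingCat.of k))) [GrpObj A] :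
    Nonempty (Omega.sheaf A.hom ≅ (Scheme.Modules.pullback A.hom).obj (Omega.conormal η[A].left)) := by
  haveI : IsSeparated A.hom := H19Grp.AffineQuotient.isSeparated_of_grp A
  haveI : IsClosedImmersion η[A].left := by
    haveI : IsClosedImmersion (η[A].left ≫ A.hom) := by
      rw [show η[A].left ≫ A.hom = 𝟙 _ from Over.w η[A]]; infer_instance
    exact IsClosedImmersion.of_comp η[A].left A.hom
  let g : A ⊗ A ⟶ A := (fst A A)⁻¹ * snd A A
  let d : A ⟶ A ⊗ A := lift (𝟙 A) (𝟙 A)
  have hd : AlgGrp.IsKernel d g := H19Grp.isKernel_of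
    (by simp [g, d, MonObj.comp_mul, GrpObj.comp_inv])
    (fun T a b h => by simpa [d] using congrArg (· ≫ fst A A) h)
    (fun T x hx => ⟨x ≫ fst A A, by
      simp only [g, MonObj.comp_mul, GrpObj.comp_inv, inv_mul_eq_one] at hx
      apply CartesianMonoidalCategory.hom_ext
      · simp [d]
      · simpa [d] using hx⟩)
  have hdl : d.left = pullback.diagonal A.hom := by
    apply pullback.hom_ext
    · exact ((congrArg CommaMorphism.left (lift_fst (𝟙 A) (𝟙 A))).trans (pullback.diagonal_fst A.hom).symm)
    · exact ((congrArg CommaMorphism.left (lift_snd (𝟙 A) (𝟙 A))).trans (pullback.diagonal_snd A.hom).symm)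
  have hsq : IsPullback (pullback.diagonal A.hom) A.hom g.left η[A].left := by
    rw [← hdl]
    exact hd.map (Over.forget _)
  let σ : A ⊗ A ≅ A ⊗ A :=
    { hom := lift (fst A A) g
      inv := lift (fst A A) (fst A A * snd A A)
      hom_inv_id := by
        apply CartesianMonoidalCategory.hom_ext
        · simp
        · simp [g, MonObj.comp_mul]
      inv_hom_id := by
        apply CartesianMonoidalCategory.hom_ext
        · simp
        · simp [g, MonObj.comp_mul, GrpObj.comp_inv] }
  haveI : Flat g.left := by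
    haveI : IsIso σ.hom.left := ((Over.forget _).mapIso σ).isIso_hom
    haveI : Flat A.hom := inferInstance
    haveI : Flat (snd A A).left := MorphismProperty.pullback_snd (P := @Flat) A.hom A.hom inferInstance
    rw [show g = σ.hom ≫ snd A A from (lift_snd _ _).symm, Over.comp_left]
    infer_instance
  obtain ⟨φ, hφ, -⟩ := S9371.result (pullback.diagonal A.hom) η[A].left g.left A.hom hsq.w.symm
  haveI := (S9372.result (pullback.diagonal A.hom) η[A].left g.left A.hom hsq φ hφ).2 inferInstance
  exact ⟨(asIso φ).symm⟩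

theorem rank_of_iso {X : Scheme.{u}} {M N : X.Modules} (e : M ≅ N) {n : ℕ} (h : FlatMod.IsFinLocFreeOfRank n M) :
    FlatMod.IsFinLocFreeOfRank n N := fun x => by
  obtain ⟨U, hU, ⟨f⟩⟩ := h x
  exact ⟨U, hU, ⟨((Scheme.Modules.restrictFunctor (U : X.Opens).ι).mapIso e).symm ≪≫ f⟩⟩

/-- A finite locally free module on the spectrum of a field is free. -/
theorem exists_freeMod_of_finLocFree {M : (Spec (CommRingCat.of k)).Modules} {n : ℕ}
    (h : FlatMod.IsFinLocFreeOfRank n M) : Nonempty (M ≅ FlatMod.freeMod _ n) := by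
  haveI : Subsingleton (Spec (CommRingCat.of k)) := inferInstanceAs (Subsingleton (PrimeSpectrum k))
  obtain ⟨U, hU, ⟨e⟩⟩ := h (IsLocalRing.closedPoint k)
  obtain rfl : U = ⊤ := top_le_iff.1 fun x _ => by
    rw [Subsingleton.elim x (IsLocalRing.closedPoint k)]; exact hU
  let jι := (⊤ : (Spec (CommRingCat.of k)).Opens).ι
  haveI : IsIso jι := (Spec (CommRingCat.of k)).topIso.isIso_hom
  exact ⟨((Scheme.Modules.pullbackId _).app M).symm ≪≫
    (Scheme.Modules.pullbackCongr (IsIso.inv_hom_id jι).symm).app M ≪≫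
    ((Scheme.Modules.pullbackComp (inv jι) jι).app M).symm ≪≫
    (Scheme.Modules.pullback (inv jι)).mapIso
      ((Scheme.Modules.restrictFunctorIsoPullback jι).symm.app M ≪≫ e) ≪≫
    H22Alg.MumfordStep.pullFreeIso (inv jι) n⟩

/-- The differentials of a smooth group of dimension `g` form a free module of rank `g`. -/
theorem nonempty_omega_free (A : Over (Spec (CommRingCat.of k))) [GrpObj A] [Smooth A.hom] [IsIntegral A.left]
    (g : ℕ) (hg : topologicalKrullDim A.left = g) : Nonempty (Omega.sheaf A.hom ≅ FlatMod.freeMod A.left g) := by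
  haveI : IsSeparated A.hom := H19Grp.AffineQuotient.isSeparated_of_grp A
  haveI := H3CAlg.DiagRegular.smoothOfRelativeDimension A.hom g hg
  obtain ⟨e⟩ := nonempty_omega_iso A
  have hη : η[A].left ≫ A.hom = 𝟙 _ := Over.w η[A]
  let C := Omega.conormal η[A].left
  let e' : (Scheme.Modules.pullback η[A].left).obj (Omega.sheaf A.hom) ≅ C :=
    (Scheme.Modules.pullback η[A].left).mapIso e ≪≫ (Scheme.Modules.pullbackComp η[A].left A.hom).app C ≪≫
      (Scheme.Modules.pullbackCongr hη).app C ≪≫ (Scheme.Modules.pullbackId _).app C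
  have hC : FlatMod.IsFinLocFreeOfRank g C :=
    rank_of_iso e' (H22Alg.KPullLam.finLocFreeOfRank_pullback η[A].left (H28RR.isFinLocFreeOfRank_omega A.hom g))
  obtain ⟨eC⟩ := exists_freeMod_of_finLocFree hC
  exact ⟨e ≪≫ (Scheme.Modules.pullback A.hom).mapIso eC ≪≫ H22Alg.MumfordStep.pullFreeIso A.hom g⟩

/-- An exterior power of a free module over a field is free of binomial rank. -/
theorem extPow_field (n r : ℕ) {L : (Spec (CommRingCat.of k)).Modules}
    (hL : ExtPow.IsExtPow r (FlatMod.freeMod _ n) L) :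
    Nonempty (L ≅ FlatMod.freeMod _ (Nat.choose n r)) := by
  have hE := H22Alg.KModel.finLocFree_free (X := Spec (CommRingCat.of k)) n
  haveI : Subsingleton (Spec (CommRingCat.of k)) := inferInstanceAs (Subsingleton (PrimeSpectrum k))
  have hr := H22Alg.KExists.ofRank_rk (H22Alg.ExtPowHom.finLocFree_of_isExtPow hE hL) (IsLocalRing.closedPoint k)
  rw [H22Alg.KExists.rk_extPow hE hL, H22Alg.KExists.rk_of_rank (H26Gr.isFinLocFreeOfRank_freeMod _ n)] at hr
  exact exists_freeMod_of_finLocFree hr

/-- An exterior power of a free module pulled back from a field is free of binomial rank. -/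
theorem extPow_free {X : Scheme.{u}} (π : X ⟶ Spec (CommRingCat.of k)) (n r : ℕ) {E L : X.Modules}
    (e : E ≅ FlatMod.freeMod X n) (hL : ExtPow.IsExtPow r E L) :
    Nonempty (L ≅ FlatMod.freeMod X (Nat.choose n r)) := by
  have hq : Coh.IsQCoh (FlatMod.freeMod (Spec (CommRingCat.of k)) n) :=
    H8Props.FinLocFree.isQCoh_of_isFinLocFree _ (H22Alg.KModel.finLocFree_free n)
  obtain ⟨L₀, hL₀⟩ := H22Alg.ExtPowSheaf.exists_isExtPow r hq
  obtain ⟨e₀⟩ := extPow_field n r hL₀
  have h := H22Alg.ExtPowHom.isExtPow_pullback π hq hL₀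
  obtain ⟨eL⟩ := H22Alg.ExtPowHom.nonempty_iso hL
    (H22Alg.ExtPowSES.isExtPow_of_iso (H22Alg.MumfordStep.pullFreeIso π n ≪≫ e.symm) h)
  exact ⟨eL ≪≫ (Scheme.Modules.pullback π).mapIso e₀ ≪≫ H22Alg.MumfordStep.pullFreeIso π _⟩

variable {X : Scheme.{u}} [X.Over (Spec (CommRingCat.of k))] [IsProper (X ↘ Spec (CommRingCat.of k))]

/-- The cohomology of a free module. -/
theorem finrank_freeMod (q : ℕ) : ∀ r, Module.finrank k (Coh.HH X (FlatMod.freeMod X r) q) =
    r * Module.finrank k (Coh.HH X (Coh.structureModule X) q) := by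
  intro r
  haveI : IsLocallyNoetherian X := LocallyOfFiniteType.isLocallyNoetherian (X ↘ Spec (CommRingCat.of k))
  have hfin : ∀ M : X.Modules, Coh.IsCoh M → Module.Finite k (Coh.HH X M q) := fun M hM =>
    H10Coh.finite_HH_proper k X M hM q
  induction r with
  | zero =>
    haveI : Subsingleton (Coh.HH X (FlatMod.freeMod X 0) q) := H10Coh.ExtPowFree.subsingleton_HH_of_isZero (by
      rw [IsZero.iff_id_eq_zero]
      exact Sigma.hom_ext _ _ fun i => i.elim0) q
    rw [Module.finrank_zero_of_subsingleton, Nat.zero_mul]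
  | succ n ih =>
    have hc : ∀ m, Coh.IsCoh (FlatMod.freeMod X m) := fun m =>
      H16Derived.KFlat.Stalk.isCoh_of_isFinLocFree (H22Alg.KModel.finLocFree_free m)
    haveI := hfin _ (hc n)
    haveI := hfin _ (H11Ample.isCoh_of_isInvertible (H11Ample.isInvertible_structureModule (X := X)))
    refine (((LeadBC.HMod k q).mapIso (H22Alg.KModel.freeSucc n)).toLinearEquiv.finrank_eq).trans ?_
    refine (H29RR.finrank_hh_biprod (k := k) (Coh.structureModule X) (FlatMod.freeMod X n) q).trans ?_
    rw [ih, Nat.succ_mul, Nat.add_comm]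

end Groth.Agent.H25Hat
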