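import Groth.Agent.H25Poinc.RiemannRoch
import Groth.Agent.H25Hat.Universal

/-!
# The Euler characteristic and the rank of the group of translations
-/

set_option autoImplicit false
set_option linter.style.haveILetI false
set_option linter.unusedSectionVars false
set_option backward.isDefEq.respectTransparency false
set_option synthInstance.maxHeartbeats 400000
set_option maxHeartbeats 2000000
universe u

open CategoryTheory CategoryTheory.Limits MonoidalCategory CartesianMonoidalCategory MonObj AlgebraicGeometry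
open Groth.Agent Groth.Agent.H25AbCube Groth.Agent.H25Dual Groth.Agent.H25Poinc
open Groth.Agent.H25Theta (pb pT pC pI pO tI)

noncomputable section

attribute [local instance] H10Coh.enoughInjMod

namespace Groth.Agent.H25Hat

variable {k : Type u} [Field k] [IsAlgClosed k] {A At : Over (Spec (CommRingCat.of k))} [GrpObj A] [IsProper A.hom]
  [GeometricallyIntegral A.hom] [GrpObj At] [IsProper At.hom] [GeometricallyIntegral At.hom]

/-- The square of the Euler characteristic is the degree of the quotient. -/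
theorem euler_sq_quotient (L : A.left.Modules) (hL : PicF.IsInvertible L)
    (hfin : Set.Finite {a : 𝟙_ (Over (Spec (CommRingCat.of k))) ⟶ A | transl (pc L hL) a = pc L hL})
    (F : A ⟶ At) [IsMonHom F] [IsFinite F.left] [Flat F.left]
    (hdim : topologicalKrullDim At.left = topologicalKrullDim A.left)
    (P : (A ⊗ At).left.Modules) (hP : PicF.IsInvertible P) (hU₀ : Universal A At P hP)
    (hPq : ev (pc (X := (A ⊗ At).left) P hP) (A ◁ F) = theta (pc L hL))
    (d : ℕ) (hd : ∀ y : ↥At.left, Scheme.Hom.finrank F.left y = d) :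
    @Curv2.euler k _ A.left ⟨A.hom⟩ L ^ 2 = (d : ℤ) := by
  classical
  letI : A.left.Over (Spec (CommRingCat.of k)) := ⟨A.hom⟩
  haveI : IsProper (A.left ↘ Spec (CommRingCat.of k)) := ‹IsProper A.hom›
  haveI : IsCommMonObj A := isCommMonObj_of_av
  haveI : IsCommMonObj At := isCommMonObj_of_av
  obtain ⟨Λ, hΛ, hu⟩ := exists_rep (theta (pc L hL))
  haveI : IsIntegral A.left := GeometricallyIntegral.isIntegral_of_subsingleton A.hom
  haveI : IsIntegral At.left := GeometricallyIntegral.isIntegral_of_subsingleton At.hom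
  haveI : IsLocallyNoetherian A.left := LocallyOfFiniteType.isLocallyNoetherian A.hom
  haveI : IsLocallyNoetherian At.left := LocallyOfFiniteType.isLocallyNoetherian At.hom
  haveI : CompactSpace A.left := QuasiCompact.compactSpace_of_compactSpace A.hom
  haveI : QuasiSeparatedSpace A.left := quasiSeparatedSpace_of_quasiSeparated A.hom
  let ℓ := pc L hL
  haveI : Nonempty A.left := ⟨(η[A] : 𝟙_ _ ⟶ A).left (IsLocalRing.closedPoint k)⟩
  have hd0 : d ≠ 0 := by
    have h := F.left.one_le_finrank_map (Classical.arbitrary A.left)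
    rw [hd] at h
    omega
  obtain ⟨g, hg⟩ := H25Grp.exists_nat_dim A.hom
  have hgt : topologicalKrullDim At.left = g := hdim.trans hg
  letI : (A ⊗ At).left.Over (Spec (CommRingCat.of k)) := ⟨(A ⊗ At).hom⟩
  letI : (A ⊗ A).left.Over (Spec (CommRingCat.of k)) := ⟨(A ⊗ A).hom⟩
  haveI : IsProper (A ⊗ At).hom := inferInstance
  haveI : IsProper (A ⊗ A).hom := inferInstance
  haveI : GeometricallyIntegral (A ⊗ At).hom := H25Rig.geometricallyIntegral_tensor A At
  haveI : GeometricallyIntegral (A ⊗ A).hom := H25Rig.geometricallyIntegral_tensor A A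
  obtain ⟨hP0, hP1, -, -⟩ := global_factsU P hP hU₀ g hg hgt le_rfl
  have hχP : Curv2.euler k (A ⊗ At).left P = (-1) ^ g := by
    rw [H25Index.euler_eq_of_concentrated (A := A ⊗ At) P g hP0]
    show (-1) ^ g * ((Module.finrank k (Coh.HH (A ⊗ At).left P g) : ℕ) : ℤ) = _
    rw [hP1, Nat.cast_one, _root_.mul_one]
  -- pulling back to the square
  obtain ⟨H, hH⟩ := exists_isAmple A
  obtain ⟨HP, hHP⟩ := exists_isAmple (A ⊗ At)
  let f := A ◁ F
  have hsq : IsPullback f.left (snd A A).left (snd A At).left F.left := by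
    refine IsPullback.of_right ?_ ?_ (IsPullback.of_hasPullback A.hom At.hom)
    · rw [show f.left ≫ pullback.fst A.hom At.hom = pullback.fst A.hom A.hom from
        (congrArg CommaMorphism.left (whiskerLeft_fst A F) : _), Over.w F]
      exact IsPullback.of_hasPullback A.hom A.hom
    · exact congrArg CommaMorphism.left (whiskerLeft_snd A F)
  haveI : IsFinite f.left := MorphismProperty.of_isPullback (P := @IsFinite) hsq.flip ‹IsFinite F.left›
  haveI : Flat f.left := MorphismProperty.of_isPullback (P := @Flat) hsq.flip ‹Flat F.left›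
  have hfd : ∀ y, f.left.finrank y = d := fun y => (Scheme.Hom.finrank_of_isPullback _ _ _ _ hsq.flip y).trans (hd _)
  have h1 := H25Index.euler_pullback (k := k) hHP f (g + g) (dim_tensor hg hgt).le d hd0 hfd P hP
  rw [hχP] at h1
  have hΛχ : Curv2.euler k (A ⊗ A).left Λ = d * (-1) ^ g := by
    refine Eq.trans (H25Euler.euler_congr ?_) h1
    exact ((pc_eq_iff hΛ (H11Ample.isInvertible_pullback _ hP)).1 (by
      rw [hu, pullP_pc _ P hP]; exact hPq.symm)).some
  -- twisting by the second factor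
  let K := CohB1.tensorMod Λ ((Scheme.Modules.pullback (snd A A).left).obj L)
  have hK : PicF.IsInvertible K := H11Ample.isInvertible_tensor hΛ (H11Ample.isInvertible_pullback _ hL)
  have hκ : pc K hK = ev ℓ (fst A A * snd A A) - ev ℓ (fst A A) := by
    rw [pc_tensor hΛ (H11Ample.isInvertible_pullback _ hL), hu, pullP_pc _ L hL, theta]
    show ev ℓ _ - ev ℓ _ - ev ℓ _ + ev ℓ (snd A A) = _
    abel
  have hid : ev ℓ (𝟙 A) = ℓ := pullP_id _
  have hqK : ∀ t, pc _ (H11Ample.isInvertible_pullback (lift (𝟙 A) (toUnit A ≫ t)).left hK) = transl ℓ t - ℓ :=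
    fun t => by
      rw [pullP_pc _ K hK, hκ, map_sub]
      show ev (ev ℓ _) _ - ev (ev ℓ _) _ = _
      rw [ev_comp, ev_comp, MonObj.comp_mul, lift_fst, lift_snd, hid]
      rfl
  have hqΛ : ∀ t, pc _ (H11Ample.isInvertible_pullback (lift (𝟙 A) (toUnit A ≫ t)).left hΛ) = transl ℓ t - ℓ :=
    fun t => by
      rw [pullP_pc _ Λ hΛ, hu]
      show ev (theta ℓ) _ = _
      rw [ev_theta, hid, ev_const, sub_zero]
      rfl
  let S : Set A.left := (fun a : 𝟙_ (Over (Spec (CommRingCat.of k))) ⟶ A => a.left (IsLocalRing.closedPoint k)) ''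
    {a | transl ℓ a = ℓ}
  have hScl : ∀ z ∈ S, IsClosed ({z} : Set A.left) := by
    rintro _ ⟨a, -, rfl⟩
    exact mem_closedPoints_iff.1 (pointEquivClosedPoint A.hom ⟨a.left, Over.w a⟩).2
  obtain ⟨W, hSW, ⟨τ⟩⟩ := exists_trivial_nhd hH hL (hfin.image _) hScl
  let q := (snd A A).left
  let U : (A ⊗ A).left.Opens := q ⁻¹ᵁ W
  obtain ⟨iU⟩ : Nonempty (K.restrict U.ι ≅ Λ.restrict U.ι) := by
    let qW : U.toScheme ⟶ W.toScheme := q ∣_ W
    let eL : ((Scheme.Modules.pullback q).obj L).restrict U.ι ≅ Coh.structureModule U.toScheme :=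
      (Scheme.Modules.restrictFunctorIsoPullback U.ι).app _ ≪≫ (Scheme.Modules.pullbackComp U.ι q).app L ≪≫
        (Scheme.Modules.pullbackCongr (morphismRestrict_ι q W).symm).app L ≪≫
        ((Scheme.Modules.pullbackComp qW W.ι).app L).symm ≪≫
        (Scheme.Modules.pullback qW).mapIso (((Scheme.Modules.restrictFunctorIsoPullback W.ι).app L).symm ≪≫ τ) ≪≫
        PicLoc.pullbackStructureIso qW
    obtain ⟨e₁⟩ := H10Coh.Tw.nonempty_restrict_tensor U Λ (H11Ample.isInvertible_pullback q hL)
    exact ⟨e₁.symm ≪≫ PicGrp.tensorModIso (Iso.refl _) eL ≪≫ H10Coh.Tw.rightUnitIso _⟩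
  letI : U.toScheme.Over (Spec (CommRingCat.of k)) := ⟨U.ι ≫ (A ⊗ A).hom⟩
  have hKΛ : Curv2.euler k (A ⊗ A).left K = Curv2.euler k (A ⊗ A).left Λ := by
    refine finsum_congr fun n => ?_
    have h := (hd_restrict q K S (A ⊗ A).hom (hfin.image _) hScl (exists_supp ℓ hfin K hK hqK) W hSW n).trans
      ((hd_iso (k := k) iU n).trans
        (hd_restrict q Λ S (A ⊗ A).hom (hfin.image _) hScl (exists_supp ℓ hfin Λ hΛ hqΛ) W hSW n).symm)
    show (-1) ^ n * ((H25Index.hd k K n : ℕ) : ℤ) = (-1) ^ n * ((H25Index.hd k Λ n : ℕ) : ℤ)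
    rw [h]
  -- the shear
  let σ : A ⊗ A ≅ A ⊗ A :=
    { hom := lift (fst A A * snd A A) (fst A A)
      inv := lift (snd A A) ((snd A A)⁻¹ * fst A A)
      hom_inv_id := CartesianMonoidalCategory.hom_ext _ _
        (by rw [Category.assoc, lift_fst, lift_snd, Category.id_comp])
        (by rw [Category.assoc, lift_snd, MonObj.comp_mul, GrpObj.comp_inv, lift_fst, lift_snd, Category.id_comp,
          inv_mul_cancel_left])
      inv_hom_id := CartesianMonoidalCategory.hom_ext _ _
        (by rw [Category.assoc, lift_fst, MonObj.comp_mul, lift_fst, lift_snd, Category.id_comp,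
          mul_inv_cancel_left])
        (by rw [Category.assoc, lift_snd, lift_fst, Category.id_comp]) }
  haveI : IsIso σ.hom.left := ((Over.forget _).mapIso σ).isIso_hom
  obtain ⟨K', hK', hK'c⟩ := exists_rep (ev ℓ (fst A A) - ev ℓ (snd A A))
  obtain ⟨iK⟩ : Nonempty (K ≅ (Scheme.Modules.pullback σ.hom.left).obj K') :=
    (pc_eq_iff hK (H11Ample.isInvertible_pullback _ hK')).1 (by
      rw [hκ, pullP_pc _ K' hK', hK'c, map_sub]
      show _ = ev (ev _ _) _ - ev (ev _ _) _
      rw [ev_comp, ev_comp, lift_fst, lift_snd])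
  haveI : IsMonHom σ.hom := H25Rig.isMonHom_of_one_hom σ.hom (CartesianMonoidalCategory.hom_ext _ _
    (by simp [σ, MonObj.comp_mul, MonObj.one_eq_one, MonObj.one_comp])
    (by simp [σ, MonObj.one_eq_one, MonObj.one_comp]))
  haveI : IsCommMonObj (A ⊗ A) := isCommMonObj_of_av
  obtain ⟨HA2, hHA2⟩ := exists_isAmple (A ⊗ A)
  have h2 := H25Index.euler_pullback (k := k) hHA2 σ.hom (g + g) (dim_tensor hg hg).le 1 one_ne_zero
    (fun y => by rw [Scheme.Hom.finrank_eq_one_of_isIso]; rfl) K' hK'
  rw [Nat.cast_one, _root_.one_mul, ← H25Euler.euler_congr iK, hKΛ, hΛχ] at h2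
  have h3 := H25Index.chiCls_box (A := A) (B := A) hH hH hg hg (dim_tensor hg hg) ℓ (-ℓ)
  rw [H25Index.chiCls_neg hg ℓ, show ev (-ℓ) (snd A A) = - ev ℓ (snd A A) from map_neg _ _, ← sub_eq_add_neg,
    ← hK'c, chiCls_pc, chiCls_pc, ← h2] at h3
  have h4 : (-1 : ℤ) ^ g * (-1) ^ g = 1 := by rw [← mul_pow, neg_one_mul, neg_neg, one_pow]
  linear_combination (-(-1) ^ g) * h3 + (d - Curv2.euler k A.left L ^ 2) * h4

/-- The group of translations fixing a class with finitely many fixed translations is finite. -/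
theorem isFinite_of_finite_fixing (ℓ : PC A.left)
    (hfin : Set.Finite {a : 𝟙_ (Over (Spec (CommRingCat.of k))) ⟶ A | transl ℓ a = ℓ})
    {K : Over (Spec (CommRingCat.of k))} (i : K ⟶ A) [IsClosedImmersion i.left]
    (h : ev (theta ℓ) (A ◁ i) = 0) : IsFinite K.hom := by
  haveI : IsProper K.hom := by rw [← Over.w i]; infer_instance
  haveI : JacobsonSpace K.left := LocallyOfFiniteType.jacobsonSpace K.hom
  haveI : Mono i := Over.mono_of_mono_left i
  have hpts : ∀ z : 𝟙_ (Over (Spec (CommRingCat.of k))) ⟶ K, transl ℓ (z ≫ i) = ℓ := fun z => by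
    have h1 : ev (ev (theta ℓ) (A ◁ i)) (lift (𝟙 A) (toUnit A ≫ z)) = 0 := by rw [h]; exact map_zero _
    rw [ev_comp, show lift (𝟙 A) (toUnit A ≫ z) ≫ (A ◁ i) = lift (𝟙 A) (toUnit A ≫ z ≫ i) by
      apply CartesianMonoidalCategory.hom_ext <;> simp, ev_theta, ev_toUnit, sub_zero, sub_eq_zero,
      show ev ℓ (𝟙 A) = ℓ from pullP_id _] at h1
    exact h1
  haveI : Finite (𝟙_ (Over (Spec (CommRingCat.of k))) ⟶ K) := by
    haveI := hfin.to_subtype
    exact Finite.of_injective (fun z => (⟨z ≫ i, hpts z⟩ : {a | transl ℓ a = ℓ}))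
      fun a b hab => (cancel_mono i).1 (congrArg Subtype.val hab)
  have hcl : (closedPoints K.left).Finite := by
    refine (Set.finite_range fun z : 𝟙_ (Over (Spec (CommRingCat.of k))) ⟶ K =>
      z.left (IsLocalRing.closedPoint k)).subset fun x hx => ?_
    let p := (pointEquivClosedPoint K.hom).symm ⟨x, hx⟩
    exact ⟨Over.homMk p.1 p.2, congrArg Subtype.val ((pointEquivClosedPoint K.hom).apply_symm_apply ⟨x, hx⟩)⟩
  haveI : Finite K.left := by
    have h1 : closedPoints K.left = Set.univ := by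
      have h2 : IsClosed (closedPoints K.left) := by
        rw [← Set.biUnion_of_singleton (closedPoints K.left)]
        exact hcl.isClosed_biUnion fun x hx => hx
      rw [← h2.closure_eq, closure_closedPoints]
    exact Set.finite_univ_iff.1 (h1 ▸ hcl)
  haveI : LocallyQuasiFinite K.hom := LocallyQuasiFinite.of_finite_preimage_singleton _ fun y => Set.toFinite _
  exact IsFinite.of_isProper_of_locallyQuasiFinite K.hom

/-- Riemann–Roch: the square of the Euler characteristic is the rank of the group of translations. -/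
theorem euler_sq_rank (L : A.left.Modules) (hL : PicF.IsInvertible L)
    (hfin : Set.Finite {a : 𝟙_ (Over (Spec (CommRingCat.of k))) ⟶ A | transl (pc L hL) a = pc L hL})
    {K : Over (Spec (CommRingCat.of k))} (i : K ⟶ A) [Mono i]
    (hK : ∀ (T : Over (Spec (CommRingCat.of k))) (a : T ⟶ A),
      (∃ z : T ⟶ K, z ≫ i = a) ↔ ev (theta (pc L hL)) (A ◁ a) = 0)
    (r : ℕ) (hr : ∀ s : ↥(Spec (CommRingCat.of k)), Scheme.Hom.finrank K.hom s = r) :
    @Curv2.euler k _ A.left ⟨A.hom⟩ L ^ 2 = (r : ℤ) := by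
  obtain ⟨B, gB, hB1, hB2, q, hq, hqfin, hqf, hqs, hqp, hdim, hker, P, hP, hPq, -, -, hU⟩ :=
    exists_universal_of_finite A (pc L hL) fun K' _ i' _ hic h => by
      haveI := hic
      exact isFinite_of_finite_fixing _ hfin i' h
  haveI := hq; haveI := hqfin; haveI := hqf; haveI := hqs; haveI := hqp
  have hsq : IsPullback (fst A K).left (fst A K * (snd A K ≫ i)).left q.left q.left :=
    (isPullback_kernel q i ((hker K i).2 ((hK K i).1 ⟨𝟙 K, Category.id_comp i⟩))
      fun T x hx => (hK T x).2 ((hker T x).1 hx)).map (Over.forget _)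
  refine euler_sq_quotient L hL hfin q hdim P hP hU hPq r fun y => ?_
  obtain ⟨x, rfl⟩ := q.left.surjective y
  haveI : IsFinite K.hom := MorphismProperty.of_isPullback (P := @IsFinite)
    ((H19Grp.isKernel_of (q := q) ((hker K i).2 ((hK K i).1 ⟨𝟙 K, Category.id_comp i⟩))
      (fun _ _ _ h => (cancel_mono i).1 h) fun T x hx => (hK T x).2 ((hker T x).1 hx)).map (Over.forget _)) hqfin
  haveI : IsFinite (fst A K).left := MorphismProperty.pullback_fst (P := @IsFinite) A.hom K.hom inferInstance
  exact (Scheme.Hom.finrank_of_isPullback _ _ _ _ hsq.flip x).symm.trans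
    ((Scheme.Hom.finrank_of_isPullback _ _ _ _ (IsPullback.of_hasPullback A.hom K.hom).flip x).trans (hr _))

end Groth.Agent.H25Hat
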